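import Groth.Agent.Surf.K994.ZarCoh
import Groth.Agent.Variety.K424.NakMain
import Groth.Agent.Vanish.K909.NefIff
import Groth.Agent.Vanish.K910.Growth
import Groth.Agent.S17621
import Groth.Agent.S17633

/-!
# Asymptotic cohomology of nef classes and of Zariski decompositions on a surface (K994)

* `hhat_zero_of_ample`: `ĥ^i(A) = 0` for `A` ample and `i ≥ 1`;
* `hhat_nef`: `ĥ^i(P) = 0` for `P` nef and `i ≥ 1` (surface, uncountable field, through S17633);
* `tendsto_chi`: `2 χ(a^m)/m² → (a.a)`;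
* `tendsto_h0_nef`, `main`.
-/

set_option autoImplicit false
universe u
open CategoryTheory CategoryTheory.Limits AlgebraicGeometry Filter Topology

namespace K994.ZarLim

open Groth.Agent Groth.Agent.Grpsch.PicGrp K433.Hq K433.Growth K464.Base K464.Curves K464.Cohom K994.ZarCoh
  Groth.Agent.Fdesc.LocGen

theorem tendsto_quad (α β γ : ℝ) :
    Tendsto (fun m : ℕ => (α + β * m + γ * (m * (m - 1))) / (m : ℝ) ^ 2) atTop (𝓝 γ) := by
  have h1 : Tendsto (fun m : ℕ => (1 : ℝ) / (m : ℝ)) atTop (𝓝 0) := tendsto_const_div_atTop_nhds_zero_nat 1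
  have h2 : Tendsto (fun m : ℕ => α * ((1 : ℝ) / m) * ((1 : ℝ) / m) + β * ((1 : ℝ) / m) + (γ - γ * ((1 : ℝ) / m)))
      atTop (𝓝 (α * 0 * 0 + β * 0 + (γ - γ * 0))) :=
    (((h1.const_mul α).mul h1).add (h1.const_mul β)).add (tendsto_const_nhds.sub (h1.const_mul γ))
  have e : α * 0 * 0 + β * 0 + (γ - γ * 0) = γ := by ring
  rw [e] at h2
  refine h2.congr' ?_
  filter_upwards [eventually_ge_atTop 1] with m hm
  have h0 : (m : ℝ) ≠ 0 := by
    have : (0 : ℝ) < m := by exact_mod_cast hm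
    exact this.ne'
  field_simp

/-- A bounded non-negative sequence with upper limit `≤ 0` tends to `0`. -/
theorem tendsto_of_limsup {u : ℕ → ℝ} (h0 : ∀ m, 0 ≤ u m) (hb : IsBoundedUnder (· ≤ ·) atTop u)
    (h : limsup u atTop ≤ 0) : Tendsto u atTop (𝓝 0) := by
  have hb' : IsBoundedUnder (· ≥ ·) atTop u := isBoundedUnder_of_eventually_ge (Eventually.of_forall h0)
  refine tendsto_of_le_liminf_of_limsup_le ?_ h hb hb'
  exact le_liminf_of_le hb.isCoboundedUnder_ge (Eventually.of_forall h0)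

variable (k : Type u) [Field k] {X : Scheme.{u}} [X.Over (Spec (CommRingCat.of k))]
  [IsProper (X ↘ Spec (CommRingCat.of k))]

theorem tendsto_chi (hd : topologicalKrullDim X ≤ (2 : ℕ)) (a : Pic X) :
    Tendsto (fun m : ℕ => ((chi k X (a ^ m) : ℤ) : ℝ) * (Nat.factorial 2 : ℝ) / (m : ℝ) ^ 2) atTop
      (𝓝 (dot k X a a : ℝ)) := by
  refine (tendsto_quad (2 * chi k X 1) (2 * (chi k X a - chi k X 1)) (dot k X a a)).congr fun m => ?_
  congr 1
  have h := two_chi_pow k hd a m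
  have h' : (2 : ℝ) * (chi k X (a ^ m) : ℝ) = 2 * chi k X 1 + 2 * m * (chi k X a - chi k X 1) +
      m * (m - 1) * dot k X a a := by exact_mod_cast h
  rw [Nat.factorial_two]
  push_cast
  linear_combination -h'

/-- The upper limit only depends on the class. -/
theorem hhat_congr (n i : ℕ) {L M : X.Modules} (hL : PicF.IsInvertible L) (hM : PicF.IsInvertible M)
    (e : Nonempty (L ≅ M)) : W4c5asymptcohfn.hhat k X n i L = W4c5asymptcohfn.hhat k X n i M := by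
  rw [hhat_eq k n i hL, hhat_eq k n i hM, (mk_eq_iff hL hM).mpr e]

include k in
theorem hq_ample {A : X.Modules} (hA : CohB1.IsAmple A) :
    ∃ n₀ : ℕ, ∀ m, n₀ ≤ m → ∀ p : ℕ, 0 < p → hq k p (Coh.structureModule X) (mk A hA.1 ^ m) = 0 := by
  obtain ⟨n₀, h⟩ := K910.Growth.exists_vanish k hA (isCoh_unit k X)
  refine ⟨n₀, fun m hm p hp => ?_⟩
  rw [← mk_tensorPow hA.1, hq_mk]
  have h1 := h m hm p hp
  refine hh_of_subsingleton k ?_
  exact (K464.Cohom.hh_congr (Ega2.Tens.swap _ _) p h1)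

theorem hhat_zero_of_ample (n : ℕ) {A : X.Modules} (hA : CohB1.IsAmple A) {i : ℕ} (hi : 1 ≤ i) :
    W4c5asymptcohfn.hhat k X n i A = 0 := by
  rw [hhat_eq k n i hA.1]
  obtain ⟨n₀, h⟩ := hq_ample k hA
  have h1 : (nseq n fun m => hq k i (Coh.structureModule X) (mk A hA.1 ^ m)) =ᶠ[atTop] fun _ => (0 : ℝ) := by
    filter_upwards [eventually_ge_atTop n₀] with m hm
    rw [nseq, h m hm i hi]
    simp
  rw [limsup_congr h1, limsup_const]

/-! ### Nef classes -/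

section nef

variable [IsAlgClosed k] [CharZero k] [Uncountable k] [AlgebraicGeometry.IsIntegral X]

theorem unit_pow_val {L M : X.Modules} (h : ClSub.IsInverseOf L M) (t : ℕ) :
    (((K434.ZTwist.unit h) ^ ((t : ℕ) : ℤ) : (Fga.PicMon.MC X)ˣ) : Fga.PicMon.MC X) = Fga.PicMon.mc L ^ t := by
  rw [zpow_natCast, Units.val_pow_eq_pow_val, K434.ZTwist.val_unit]

theorem le_zero_of_bound {h C : ℝ} (hC : 0 ≤ C) (H : ∀ t : ℕ, 1 ≤ t → (t : ℝ) ^ 2 * h ≤ C * (t + 1)) : h ≤ 0 := by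
  by_contra hcon
  push Not at hcon
  obtain ⟨t, ht⟩ := exists_nat_gt ((2 * C) / h)
  have h1 : (2 * C) < (t : ℝ) * h := by rwa [div_lt_iff₀ hcon] at ht
  have ht0 : 1 ≤ t := by
    rcases Nat.eq_zero_or_pos t with h0 | h0
    · subst h0; simp at h1; linarith
    · exact h0
  have h2 := H t ht0
  have ht1 : (1 : ℝ) ≤ t := by exact_mod_cast ht0
  nlinarith [mul_lt_mul_of_pos_left h1 (by linarith : (0 : ℝ) < t), mul_le_mul_of_nonneg_left ht1 hC]

theorem hhat_nef (hproj : ∃ A : X.Modules, CohB1.IsAmple A) (hdim : topologicalKrullDim X = 2) {P : X.Modules}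
    (hP : PicF.IsInvertible P) (hnef : K909.Kleiman.Nef k X P) {i : ℕ} (hi : 1 ≤ i) :
    W4c5asymptcohfn.hhat k X 2 i P ≤ 0 := by
  obtain ⟨A, hA⟩ := hproj
  obtain ⟨P', hP'⟩ := K434.ZTwist.exists_isInverseOf hP
  obtain ⟨A', hA'⟩ := K434.ZTwist.exists_isInverseOf hA.1
  have hd : topologicalKrullDim X ≤ (2 : ℕ) := by rw [hdim]; rfl
  have hM : ∀ j, ClSub.IsInverseOf ((![P, A] : Fin 2 → X.Modules) j) ((![P', A'] : Fin 2 → X.Modules) j) := by
    intro j
    fin_cases j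
    · exact hP'
    · exact hA'
  have hL : ∀ j, PicF.IsInvertible ((![P, A] : Fin 2 → X.Modules) j) := fun j =>
    (K434.ZTwist.isInvertible_of_inverse (hM j)).1
  obtain ⟨C, hC⟩ := Groth.Agent.S17633.result k X ⟨A, hA⟩ 2 hdim 2 ![P, A] ![P', A'] hL hM i
  refine le_zero_of_bound (abs_nonneg C) fun t ht => ?_
  have h1 := hC ![(t : ℤ), 0] ![(t : ℤ), 1]
  have hz := fun c => K434.ZTwist.isInvertible_ztwist ![P, A] ![P', A'] hM c
  have e1 : Nonempty (W4c5asymptcohfn.ztwist X ![P, A] ![P', A'] ![(t : ℤ), 0] ≅ CohB1.tensorPow P t) := by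
    rw [← Fga.PicMon.mc_eq_iff, K434.ZTwist.mc_ztwist _ _ hM, Fin.prod_univ_two, Fga.PicMon.mc_tensorPow]
    change (((K434.ZTwist.unit hP') ^ ((t : ℕ) : ℤ) * (K434.ZTwist.unit hA') ^ (0 : ℤ) : (Fga.PicMon.MC X)ˣ) :
      Fga.PicMon.MC X) = _
    rw [zpow_zero, mul_one, unit_pow_val]
  have e2 : Nonempty (W4c5asymptcohfn.ztwist X ![P, A] ![P', A'] ![(t : ℤ), 1] ≅
      CohB1.tensorMod (CohB1.tensorPow P t) A) := by
    rw [← Fga.PicMon.mc_eq_iff, K434.ZTwist.mc_ztwist _ _ hM, Fin.prod_univ_two, Fga.PicMon.mc_tensor,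
      Fga.PicMon.mc_tensorPow]
    change (((K434.ZTwist.unit hP') ^ ((t : ℕ) : ℤ) * (K434.ZTwist.unit hA') ^ (1 : ℤ) : (Fga.PicMon.MC X)ˣ) :
      Fga.PicMon.MC X) = _
    rw [zpow_one, Units.val_mul, unit_pow_val, K434.ZTwist.val_unit]
  have hamp : CohB1.IsAmple (CohB1.tensorMod (CohB1.tensorPow P t) A) :=
    K909.Kleiman.isAmple_tensorPow_tensor k (K424.NakMain.nak k) X 2 hd P A hnef hP hA t
  rw [hhat_congr k 2 i (hz _) (isInvertible_tensorPow hP t) e1,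
    hhat_congr k 2 i (hz _) hamp.1 e2, hhat_zero_of_ample k 2 hamp hi, sub_zero,
    Groth.Agent.S17621.result k X ⟨A, hA⟩ 2 hdim P hP t ht i] at h1
  refine (le_abs_self _).trans (h1.trans ?_)
  have hn1 : ‖(fun j : Fin 2 => (((![(t : ℤ), 0] : Fin 2 → ℤ) j : ℤ) : ℝ))‖ ≤ t := by
    rw [pi_norm_le_iff_of_nonneg (Nat.cast_nonneg t)]
    intro j
    fin_cases j
    · simp
    · simp
  have ht1 : (1 : ℝ) ≤ t := by exact_mod_cast ht
  have hn2 : ‖(fun j : Fin 2 => (((![(t : ℤ), 1] : Fin 2 → ℤ) j : ℤ) : ℝ))‖ ≤ t := by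
    rw [pi_norm_le_iff_of_nonneg (Nat.cast_nonneg t)]
    intro j
    fin_cases j
    · simp
    · simpa using ht1
  have hn3 : ‖(fun j : Fin 2 => (((![(t : ℤ), 0] : Fin 2 → ℤ) j - (![(t : ℤ), 1] : Fin 2 → ℤ) j : ℤ) : ℝ))‖ ≤ 1 := by
    rw [pi_norm_le_iff_of_nonneg zero_le_one]
    intro j
    fin_cases j
    · simp
    · simp
  have hS : (Finset.Icc 1 2).sum (fun q =>
      (max ‖(fun j : Fin 2 => (((![(t : ℤ), 0] : Fin 2 → ℤ) j : ℤ) : ℝ))‖
        ‖(fun j : Fin 2 => (((![(t : ℤ), 1] : Fin 2 → ℤ) j : ℤ) : ℝ))‖) ^ (2 - q) *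
      ‖(fun j : Fin 2 => (((![(t : ℤ), 0] : Fin 2 → ℤ) j - (![(t : ℤ), 1] : Fin 2 → ℤ) j : ℤ) : ℝ))‖ ^ q) ≤ t + 1 := by
    have hI : Finset.Icc 1 2 = ({1, 2} : Finset ℕ) := rfl
    rw [hI, Finset.sum_pair (by decide)]
    have hm := max_le hn1 hn2
    have hm0 : 0 ≤ max ‖(fun j : Fin 2 => (((![(t : ℤ), 0] : Fin 2 → ℤ) j : ℤ) : ℝ))‖
        ‖(fun j : Fin 2 => (((![(t : ℤ), 1] : Fin 2 → ℤ) j : ℤ) : ℝ))‖ := (norm_nonneg _).trans (le_max_left _ _)
    refine add_le_add ?_ ?_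
    · rw [pow_one]
      simp only [Nat.reduceSub, pow_one]
      calc _ ≤ (t : ℝ) * 1 := mul_le_mul hm hn3 (norm_nonneg _) (Nat.cast_nonneg t)
        _ = t := mul_one _
    · simp only [Nat.sub_self, pow_zero, one_mul]
      exact pow_le_one₀ (norm_nonneg _) hn3
  have hS0 : 0 ≤ (Finset.Icc 1 2).sum (fun q =>
      (max ‖(fun j : Fin 2 => (((![(t : ℤ), 0] : Fin 2 → ℤ) j : ℤ) : ℝ))‖
        ‖(fun j : Fin 2 => (((![(t : ℤ), 1] : Fin 2 → ℤ) j : ℤ) : ℝ))‖) ^ (2 - q) *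
      ‖(fun j : Fin 2 => (((![(t : ℤ), 0] : Fin 2 → ℤ) j - (![(t : ℤ), 1] : Fin 2 → ℤ) j : ℤ) : ℝ))‖ ^ q) :=
    Finset.sum_nonneg fun q _ => mul_nonneg (pow_nonneg ((norm_nonneg _).trans (le_max_left _ _)) _)
      (pow_nonneg (norm_nonneg _) _)
  exact (mul_le_mul_of_nonneg_right (le_abs_self C) hS0).trans (mul_le_mul_of_nonneg_left hS (abs_nonneg C))

/-- `h^i(P^m)/m² → 0` for `P` nef and `i ≥ 1`. -/
theorem tendsto_nef (hproj : ∃ A : X.Modules, CohB1.IsAmple A) (hdim : topologicalKrullDim X = 2) {P : X.Modules}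
    (hP : PicF.IsInvertible P) (hnef : K909.Kleiman.Nef k X P) {i : ℕ} (hi : 1 ≤ i) :
    Tendsto (nseq 2 fun m => hq k i (Coh.structureModule X) (mk P hP ^ m)) atTop (𝓝 0) := by
  have h := hhat_nef k hproj hdim hP hnef hi
  rw [hhat_eq k 2 i hP] at h
  obtain ⟨A, hA⟩ := hproj
  have hd : topologicalKrullDim (CohB1.support (Coh.structureModule X)) ≤ (2 : ℕ) :=
    (Topology.IsInducing.subtypeVal.topologicalKrullDim_le).trans hdim.le
  obtain ⟨C', hC'⟩ := growth_pow k hA (mk P hP) (isCoh_unit k X) hd i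
  exact tendsto_of_limsup (nseq_nonneg 2 _) (nseq_bounded hC') h

end nef

/-! ### Zariski decompositions -/

section zariski

variable [IsAlgClosed k] [CharZero k] [Uncountable k] [AlgebraicGeometry.IsIntegral X]

theorem nseq_chi (hd : topologicalKrullDim X ≤ (2 : ℕ)) (c : ℕ → Pic X) (m : ℕ) :
    ((chi k X (c m) : ℤ) : ℝ) * (Nat.factorial 2 : ℝ) / (m : ℝ) ^ 2 =
      nseq 2 (fun m => hq k 0 (Coh.structureModule X) (c m)) m - nseq 2 (fun m => hq k 1 (Coh.structureModule X) (c m)) m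
        + nseq 2 (fun m => hq k 2 (Coh.structureModule X) (c m)) m := by
  unfold nseq
  have h : ((chi k X (c m) : ℤ) : ℝ) = (hq k 0 (Coh.structureModule X) (c m) : ℝ) -
      hq k 1 (Coh.structureModule X) (c m) + hq k 2 (Coh.structureModule X) (c m) := by
    exact_mod_cast chi_eq k hd (c m)
  rw [h]
  ring

theorem main (hproj : ∃ A : X.Modules, CohB1.IsAmple A) (hdim : topologicalKrullDim X = 2) {P : X.Modules}
    (hP : PicF.IsInvertible P) (hnef : K909.Kleiman.Nef k X P) {s : ℕ} {N : Fin s → X.IdealSheafData}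
    (hN : ∀ j, IsCurve (N j)) (hE : ∀ j, BlowUp.IsEffCartierIdeal (N j)) (b : Fin s → ℕ)
    (hneg : (-(Matrix.of fun j l : Fin s => dot k X (ic (N j) (hE j)) (ic (N l) (hE l)))).PosDef)
    (horth : ∀ j, degOn k X (N j) (mk P hP) = 0) {L : X.Modules} (hL : PicF.IsInvertible L)
    (hdec : mk L hL = mk P hP * (neg hE b)⁻¹) :
    W4c5asymptcohfn.hhat k X 2 0 L = dot k X (mk P hP) (mk P hP) ∧
      W4c5asymptcohfn.hhat k X 2 1 L = - dot k X (neg hE b) (neg hE b) ∧ W4c5asymptcohfn.hhat k X 2 2 L = 0 := by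
  have hd : topologicalKrullDim X ≤ (2 : ℕ) := by rw [hdim]; rfl
  have hpow : ∀ m : ℕ, mk L hL ^ m = mk P hP ^ m * (neg hE (m • b))⁻¹ := fun m => by
    rw [hdec, mul_pow, inv_pow, neg_pow]
  have hm0 : ∀ (m : ℕ) j, degOn k X (N j) (mk P hP ^ m) = 0 := fun m j => by
    rw [degOn_pow k (hN j), horth, mul_zero]
  have h0 : ∀ m, hq k 0 (Coh.structureModule X) (mk L hL ^ m) = hq k 0 (Coh.structureModule X) (mk P hP ^ m) :=
    fun m => by rw [hpow, h0_eq k hN hE hneg (hm0 m)]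
  have h2 : ∀ m, hq k 2 (Coh.structureModule X) (mk L hL ^ m) ≤ hq k 2 (Coh.structureModule X) (mk P hP ^ m) :=
    fun m => by rw [hpow]; exact h2_le k hN hE _ _
  have t1 := tendsto_nef k hproj hdim hP hnef (i := 1) le_rfl
  have t2 := tendsto_nef k hproj hdim hP hnef (i := 2) (by norm_num)
  have t0 : Tendsto (nseq 2 fun m => hq k 0 (Coh.structureModule X) (mk P hP ^ m)) atTop
      (𝓝 (dot k X (mk P hP) (mk P hP) : ℝ)) := by
    have h := ((tendsto_chi k hd (mk P hP)).add t1).sub t2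
    rw [add_zero, sub_zero] at h
    refine h.congr fun m => ?_
    rw [nseq_chi k hd (fun m => mk P hP ^ m) m]
    ring
  have s0 : Tendsto (nseq 2 fun m => hq k 0 (Coh.structureModule X) (mk L hL ^ m)) atTop
      (𝓝 (dot k X (mk P hP) (mk P hP) : ℝ)) := t0.congr fun m => by
    simp only [nseq, h0]
  have s2 : Tendsto (nseq 2 fun m => hq k 2 (Coh.structureModule X) (mk L hL ^ m)) atTop (𝓝 0) := by
    refine squeeze_zero (nseq_nonneg 2 _) (fun m => ?_) t2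
    unfold nseq
    have := h2 m
    gcongr
  have s1 : Tendsto (nseq 2 fun m => hq k 1 (Coh.structureModule X) (mk L hL ^ m)) atTop
      (𝓝 ((dot k X (mk P hP) (mk P hP) : ℝ) + 0 - dot k X (mk L hL) (mk L hL))) := by
    refine ((s0.add s2).sub (tendsto_chi k hd (mk L hL))).congr fun m => ?_
    rw [nseq_chi k hd (fun m => mk L hL ^ m) m]
    ring
  have hpn : dot k X (mk P hP) (neg hE b) = 0 := by
    unfold neg
    rw [dot_prod_right k X hd]
    refine Finset.sum_eq_zero fun j _ => ?_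
    rw [dot_pow_right k X hd, dot_comm, dot_ic_eq, horth]
    simp
  have hval : (dot k X (mk P hP) (mk P hP) : ℝ) + 0 - dot k X (mk L hL) (mk L hL) =
      ((- dot k X (neg hE b) (neg hE b) : ℤ) : ℝ) := by
    rw [hdec, dot_mul_left k X hd, dot_mul_right k X hd, dot_mul_right k X hd, dot_inv_right k X hd,
      dot_inv_left k X hd, dot_inv_inv k X hd, hpn, dot_comm k X (neg hE b), hpn]
    push_cast
    ring
  rw [hval] at s1
  refine ⟨?_, ?_, ?_⟩
  · rw [hhat_eq k 2 0 hL, s0.limsup_eq]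
  · rw [hhat_eq k 2 1 hL, s1.limsup_eq]
    push_cast
    ring
  · rw [hhat_eq k 2 2 hL, s2.limsup_eq]

end zariski

end K994.ZarLim
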