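import Groth.Agent.Variety.K433.GrowthId
import Groth.Agent.Variety.K433.HhatEq
import Groth.Agent.Surf.K464.Cohom
import Groth.Agent.Surf.K465.NumTriv
import Mathlib.LinearAlgebra.Matrix.PosDef

/-!
# Cohomology of `e ⊗ O(∑ n_j N_j)` for a negative definite configuration orthogonal to `e` (K994)

`X` proper over `k` of dimension `2`, `N_j` integral curves which are effective Cartier divisors, with negative
definite intersection matrix, `e` a class of degree `0` on every `N_j`, `n_j ≥ 0`.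

* `exists_row`: linear algebra;
* `chi_eq`: `χ = h⁰ - h¹ + h²`;
* `h0_eq`: `h⁰(e ⊗ O(∑ n_j N_j)) = h⁰(e)`;
* `h2_le`: `h²(e ⊗ O(∑ n_j N_j)) ≤ h²(e)`.
-/

set_option autoImplicit false
universe u
open CategoryTheory CategoryTheory.Limits AlgebraicGeometry

namespace K994.ZarCoh

open Groth.Agent Groth.Agent.Grpsch.PicGrp K433.Hq K464.Base K464.Curves K464.Cohom

/-- A row with negative product. -/
theorem exists_row {s : ℕ} {G : Fin s → Fin s → ℤ} (h : (-(Matrix.of G)).PosDef) {n : Fin s → ℕ} (hn : n ≠ 0) :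
    ∃ i, 0 < n i ∧ ∑ j, (n j : ℤ) * G i j < 0 := by
  have hn' : (fun i => (n i : ℤ)) ≠ 0 := by
    intro h0
    apply hn
    funext i
    have := congrFun h0 i
    simpa using this
  have h1 := h.dotProduct_mulVec_pos hn'
  have h2 : dotProduct (star (fun i => (n i : ℤ))) (Matrix.mulVec (-(Matrix.of G)) (fun i => (n i : ℤ))) =
      -∑ i, (n i : ℤ) * ∑ j, (n j : ℤ) * G i j := by
    rw [Matrix.neg_mulVec, dotProduct_neg, dotProduct, neg_inj]
    refine Finset.sum_congr rfl fun i _ => ?_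
    rw [Matrix.mulVec, dotProduct]
    change (n i : ℤ) * _ = _
    congr 1
    refine Finset.sum_congr rfl fun j _ => ?_
    rw [Matrix.of_apply, mul_comm]
  rw [h2] at h1
  by_contra hcon
  push Not at hcon
  have h3 : 0 ≤ ∑ i, (n i : ℤ) * ∑ j, (n j : ℤ) * G i j := Finset.sum_nonneg fun i _ => by
    rcases Nat.eq_zero_or_pos (n i) with h0 | h0
    · simp [h0]
    · exact mul_nonneg (by positivity) (hcon i h0)
  linarith

variable (k : Type u) [Field k] {X : Scheme.{u}} [X.Over (Spec (CommRingCat.of k))]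
  [IsProper (X ↘ Spec (CommRingCat.of k))]

theorem euler_eq (hd : topologicalKrullDim X ≤ (2 : ℕ)) (M : X.Modules) :
    Curv2.euler k X M = (hh k M 0 : ℤ) - hh k M 1 + hh k M 2 := by
  rw [← Fga.IntAdd.eulerCharLE_eq k X 2 hd M]
  unfold FGA.eulerCharLE
  rw [Finset.sum_range_succ, Finset.sum_range_succ, Finset.sum_range_succ, Finset.sum_range_zero]
  simp only [hh_def]
  ring

/-- `χ = h⁰ - h¹ + h²`. -/
theorem chi_eq (hd : topologicalKrullDim X ≤ (2 : ℕ)) (c : Pic X) :
    chi k X c = (hq k 0 (Coh.structureModule X) c : ℤ) - hq k 1 (Coh.structureModule X) c +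
      hq k 2 (Coh.structureModule X) c := by
  obtain ⟨L, hL, rfl⟩ := exists_mk c
  rw [chi_mk, euler_eq k hd, hq_unit, hq_unit, hq_unit]

theorem hq_ic (q : ℕ) {C : X.IdealSheafData} (hE : BlowUp.IsEffCartierIdeal C) (c : Pic X) :
    hq k q (ClSub.idealMod C) c = hq k q (Coh.structureModule X) (ic C hE * c) := by
  rw [hq_congr k q (F := ClSub.idealMod C) (G := CohB1.tensorMod (Coh.structureModule X) (ClSub.idealMod C))
    ⟨(Ega2.Tens.lunit _).symm⟩ c]
  exact hq_tensor k q _ (Dix.IdealModCartier.isInvertible_idealMod hE) c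

theorem hq_quot_eq_zero {q : ℕ} {C : X.IdealSheafData} {c : Pic X}
    (h : ∀ (L : X.Modules) (_ : PicF.IsInvertible L), c = mk L ‹_› →
      Subsingleton (Coh.HH X (CohB1.tensorMod (ClSub.quotMod C) L) q)) : hq k q (ClSub.quotMod C) c = 0 := by
  obtain ⟨L, hL, rfl⟩ := exists_mk c
  rw [hq_mk]
  exact hh_of_subsingleton k (h L hL rfl)

/-- Removing a curve of negative degree does not change `h⁰`. -/
theorem step_zero {C : X.IdealSheafData} (hC : IsCurve C) (hE : BlowUp.IsEffCartierIdeal C) (c : Pic X)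
    (hneg : degOn k X C c < 0) :
    hq k 0 (Coh.structureModule X) c = hq k 0 (Coh.structureModule X) (ic C hE * c) := by
  have h0 : hq k 0 (ClSub.quotMod C) c = 0 := hq_quot_eq_zero k fun L hL e => by
    subst e
    exact subsingleton_H0_of_neg k hC hL hneg
  have h1 := hq_mid_le k (VarietyB.RestrSeq.idealSeq_shortExact C) (isCoh_idealMod k X C) (isCoh_unit k X)
    (isCoh_quotMod X C) 0 c
  have h2 := hq_left_le k (VarietyB.RestrSeq.idealSeq_shortExact C) (isCoh_idealMod k X C) (isCoh_unit k X)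
    (isCoh_quotMod X C) 0 c
  change hq k 0 (Coh.structureModule X) c ≤ hq k 0 (ClSub.idealMod C) c + hq k 0 (ClSub.quotMod C) c at h1
  change hq k 0 (ClSub.idealMod C) c ≤ hq k 0 (Coh.structureModule X) c + hq k 0 (ClSub.quotMod C) c at h2
  rw [hq_ic k 0 hE, h0] at h1 h2
  omega

/-- Removing a curve can only increase `h²`. -/
theorem step_two {C : X.IdealSheafData} (hC : IsCurve C) (hE : BlowUp.IsEffCartierIdeal C) (c : Pic X) :
    hq k 2 (Coh.structureModule X) c ≤ hq k 2 (Coh.structureModule X) (ic C hE * c) := by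
  have h0 : hq k 2 (ClSub.quotMod C) c = 0 := hq_quot_eq_zero k fun L hL _ =>
    subsingleton_HH_gt k (d := 1) C (by rw [hC.dim]; rfl) hL 2 (by omega)
  have h1 := hq_mid_le k (VarietyB.RestrSeq.idealSeq_shortExact C) (isCoh_idealMod k X C) (isCoh_unit k X)
    (isCoh_quotMod X C) 2 c
  change hq k 2 (Coh.structureModule X) c ≤ hq k 2 (ClSub.idealMod C) c + hq k 2 (ClSub.quotMod C) c at h1
  rw [hq_ic k 2 hE, h0] at h1
  omega

section config

variable {s : ℕ} {N : Fin s → X.IdealSheafData} (hN : ∀ j, IsCurve (N j))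
  (hE : ∀ j, BlowUp.IsEffCartierIdeal (N j))

/-- The class of `O(-∑ n_j N_j)`. -/
noncomputable def neg (n : Fin s → ℕ) : Pic X := ∏ j, ic (N j) (hE j) ^ n j

theorem neg_zero : neg hE 0 = 1 := by simp [neg]

theorem neg_update (n : Fin s → ℕ) (i : Fin s) :
    neg hE (n + Pi.single i 1) = ic (N i) (hE i) * neg hE n := by
  unfold neg
  simp only [Pi.add_apply, pow_add, Finset.prod_mul_distrib]
  rw [mul_comm]
  congr 1
  rw [Finset.prod_eq_single i]
  · simp
  · intro j _ hj
    simp [Pi.single_eq_of_ne hj]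
  · intro h; exact absurd (Finset.mem_univ i) h

theorem neg_pow (n : Fin s → ℕ) (m : ℕ) : neg hE n ^ m = neg hE (m • n) := by
  unfold neg
  rw [← Finset.prod_pow]
  refine Finset.prod_congr rfl fun j _ => ?_
  rw [← pow_mul, Pi.smul_apply, smul_eq_mul, mul_comm]

include hN in
theorem degOn_neg (n : Fin s → ℕ) (i : Fin s) :
    degOn k X (N i) (neg hE n) = -∑ j, (n j : ℤ) * dot k X (ic (N i) (hE i)) (ic (N j) (hE j)) := by
  unfold neg
  rw [degOn_prod k (hN i), ← Finset.sum_neg_distrib]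
  refine Finset.sum_congr rfl fun j _ => ?_
  rw [degOn_pow k (hN i), dot_ic_eq]
  ring

theorem exists_pred {n : Fin s → ℕ} {i : Fin s} (hi : 0 < n i) : ∃ n' : Fin s → ℕ, n = n' + Pi.single i 1 := by
  refine ⟨fun j => n j - (Pi.single i 1 : Fin s → ℕ) j, funext fun j => ?_⟩
  rcases eq_or_ne j i with rfl | hj
  · simp only [Pi.add_apply, Pi.single_eq_same]; omega
  · simp [Pi.single_eq_of_ne hj]

theorem sum_update (n : Fin s → ℕ) (i : Fin s) : ∑ j, (n + Pi.single i 1 : Fin s → ℕ) j = ∑ j, n j + 1 := by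
  simp only [Pi.add_apply, Finset.sum_add_distrib]
  congr 1
  simp

include hN in
/-- `h⁰(e ⊗ O(∑ n_j N_j)) = h⁰(e)`. -/
theorem h0_eq (hneg : (-(Matrix.of fun j l : Fin s => dot k X (ic (N j) (hE j)) (ic (N l) (hE l)))).PosDef)
    {e : Pic X} (he : ∀ j, degOn k X (N j) e = 0) (n : Fin s → ℕ) :
    hq k 0 (Coh.structureModule X) (e * (neg hE n)⁻¹) = hq k 0 (Coh.structureModule X) e := by
  induction hS : ∑ j, n j generalizing n with
  | zero =>
    have h0 : n = 0 := by
      funext j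
      exact (Finset.sum_eq_zero_iff.1 hS) j (Finset.mem_univ j)
    rw [h0, neg_zero, inv_one, mul_one]
  | succ S ih =>
    have h0 : n ≠ 0 := by
      rintro rfl
      simp at hS
    obtain ⟨i, hi, hrow⟩ := exists_row hneg h0
    obtain ⟨n', rfl⟩ := exists_pred hi
    have hdeg : degOn k X (N i) (e * (neg hE (n' + Pi.single i 1))⁻¹) < 0 := by
      rw [degOn_mul k (hN i), degOn_inv k (hN i), he, degOn_neg k hN hE, zero_add, neg_neg]
      exact hrow
    rw [step_zero k (hN i) (hE i) _ hdeg]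
    have e1 : ic (N i) (hE i) * (e * (neg hE (n' + Pi.single i 1))⁻¹) = e * (neg hE n')⁻¹ := by
      rw [neg_update, mul_inv]
      calc ic (N i) (hE i) * (e * ((ic (N i) (hE i))⁻¹ * (neg hE n')⁻¹)) =
          (ic (N i) (hE i) * (ic (N i) (hE i))⁻¹) * (e * (neg hE n')⁻¹) := by ac_rfl
        _ = _ := by rw [mul_inv_cancel, one_mul]
    rw [e1]
    refine ih n' ?_
    rw [sum_update] at hS
    omega

include hN in
/-- `h²(e ⊗ O(∑ n_j N_j)) ≤ h²(e)`. -/
theorem h2_le (e : Pic X) (n : Fin s → ℕ) :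
    hq k 2 (Coh.structureModule X) (e * (neg hE n)⁻¹) ≤ hq k 2 (Coh.structureModule X) e := by
  induction hS : ∑ j, n j generalizing n with
  | zero =>
    have h0 : n = 0 := by
      funext j
      exact (Finset.sum_eq_zero_iff.1 hS) j (Finset.mem_univ j)
    rw [h0, neg_zero, inv_one, mul_one]
  | succ S ih =>
    obtain ⟨i, hi⟩ : ∃ i, 0 < n i := by
      by_contra hcon
      push Not at hcon
      have : ∑ j, n j = 0 := Finset.sum_eq_zero fun j _ => Nat.le_zero.1 (hcon j)
      omega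
    obtain ⟨n', rfl⟩ := exists_pred hi
    refine (step_two k (hN i) (hE i) _).trans ?_
    have e1 : ic (N i) (hE i) * (e * (neg hE (n' + Pi.single i 1))⁻¹) = e * (neg hE n')⁻¹ := by
      rw [neg_update, mul_inv]
      calc ic (N i) (hE i) * (e * ((ic (N i) (hE i))⁻¹ * (neg hE n')⁻¹)) =
          (ic (N i) (hE i) * (ic (N i) (hE i))⁻¹) * (e * (neg hE n')⁻¹) := by ac_rfl
        _ = _ := by rw [mul_inv_cancel, one_mul]
    rw [e1]
    refine ih n' ?_
    rw [sum_update] at hS
    omega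

end config

/-- `2 χ(a^m) = 2 χ(1) + 2 m (χ(a) - χ(1)) + m (m - 1) (a.a)`. -/
theorem two_chi_pow (hd : topologicalKrullDim X ≤ (2 : ℕ)) (a : Pic X) (m : ℕ) :
    2 * chi k X (a ^ m) = 2 * chi k X 1 + 2 * m * (chi k X a - chi k X 1) + m * (m - 1) * dot k X a a := by
  induction m with
  | zero => simp
  | succ m ih =>
    rw [pow_succ, chi_mul, dot_pow_left k X hd]
    push_cast
    linear_combination ih

end K994.ZarCoh
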